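import Cfsg.Agent.Spor.LyAa.D0

set_option autoImplicit false
set_option maxRecDepth 100000000
set_option Elab.async false

namespace Cfsg.Agent.Spor.LyAa

theorem ok0 : Net.okb 4 n0 = true := by decide +kernel

theorem ok1 : Net.okb 4 n1 = true := by decide +kernel

theorem ok2 : Net.okb 4 n2 = true := by decide +kernel

theorem ok3 : Net.okb 4 n3 = true := by decide +kernel

theorem ok4 : Net.okb 4 n4 = true := by decide +kernel

theorem ok5 : Net.okb 4 n5 = true := by decide +kernel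

theorem rel0 : T.rel 4 [1, 1] 0 4 = true := by decide +kernel

theorem rel1 : T.rel 4 [10, 2, 7] 0 4 = true := by decide +kernel

theorem rel2 : T.rel 4 [4, 10, 10, 5, 11, 11, 1, 10, 10, 5, 11, 11, 1, 10, 10, 9, 11, 11, 10, 10, 5, 11, 11, 1, 10, 10, 5, 11, 11, 1, 10, 10, 9, 11, 11, 4, 10, 10, 5, 11, 11, 1, 10, 10, 9, 11, 11, 1, 10, 10, 9, 11, 11, 10, 10, 5, 11, 11, 1, 10, 10, 9, 11, 11, 1, 10, 10, 9, 11, 11] 0 4 = true := by decide +kernel

theorem rel3 : T.rel 4 [10, 10, 5, 11, 11, 1, 10, 10, 5, 11, 11, 1, 10, 10, 9, 11, 11, 10, 10, 5, 11, 11, 1, 10, 10, 5, 11, 11, 1, 10, 10, 9, 11, 11, 10, 10, 5, 11, 11, 1, 10, 10, 5, 11, 11, 1, 10, 10, 9, 11, 11, 10, 10, 5, 11, 11, 1, 10, 10, 5, 11, 11, 1, 10, 10, 9, 11, 11] 0 4 = true := by decide +kernel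

theorem rel4 : T.rel 4 [4, 4, 4, 4, 4] 0 4 = true := by decide +kernel

theorem rel5 : T.rel 4 [4, 10, 10, 5, 11, 11, 1, 10, 10, 5, 11, 11, 1, 10, 10, 9, 11, 11, 4, 10, 10, 5, 11, 11, 1, 10, 10, 5, 11, 11, 1, 10, 10, 9, 11, 11, 4, 10, 10, 5, 11, 11, 1, 10, 10, 5, 11, 11, 1, 10, 10, 9, 11, 11, 4, 10, 10, 5, 11, 11, 1, 10, 10, 9, 11, 11, 1, 10, 10, 9, 11, 11, 8, 10, 10, 5, 11, 11, 1, 10, 10, 9, 11, 11, 1, 10, 10, 9, 11, 11] 0 4 = true := by decide +kernel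

theorem rel6 : T.rel 4 [10, 10, 5, 11, 11, 4, 10, 10, 9, 11, 11, 8, 8] 0 4 = true := by decide +kernel

theorem rel7 : T.rel 4 [10, 10, 5, 11, 11, 1, 4, 4, 10, 10, 9, 11, 11, 4, 1, 10, 10, 9, 11, 11, 10, 10, 5, 11, 11, 1, 10, 10, 5, 11, 11, 1, 10, 10, 9, 11, 11] 0 4 = true := by decide +kernel

theorem rel8 : T.rel 4 [10, 10, 5, 11, 11, 10, 10, 5, 11, 11, 10, 10, 5, 11, 11, 1, 10, 10, 9, 11, 11, 1, 10, 10, 9, 11, 11, 10, 10, 5, 11, 11, 1, 10, 10, 9, 11, 11, 1, 10, 10, 9, 11, 11] 0 4 = true := by decide +kernel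

theorem rel9 : T.rel 4 [10, 10, 5, 11, 11, 1, 4, 4, 1, 10, 10, 9, 11, 11, 8, 1, 10, 10, 9, 11, 11, 10, 10, 5, 11, 11, 1, 10, 10, 5, 11, 11, 1, 10, 10, 9, 11, 11, 8] 0 4 = true := by decide +kernel

theorem rel10 : T.rel 4 [1, 4, 10, 10, 5, 11, 11, 1, 10, 10, 5, 11, 11, 1, 10, 10, 9, 11, 11, 8, 10, 10, 5, 11, 11, 1, 10, 10, 9, 11, 11, 1, 10, 10, 9, 11, 11, 4, 4, 10, 10, 5, 11, 11, 1, 10, 10, 9, 11, 11, 1, 10, 10, 9, 11, 11, 8, 8] 0 4 = true := by decide +kernel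

theorem rel11 : T.rel 4 [10, 5, 11, 10, 5, 11, 10, 10, 9, 11, 11, 10, 10, 9, 11, 11] 0 4 = true := by decide +kernel

theorem rel12 : T.rel 4 [10, 5, 11, 4, 10, 9, 11, 8, 8] 0 4 = true := by decide +kernel

theorem rel13 : T.rel 4 [10, 5, 11, 1, 4, 4, 10, 9, 11, 4, 1, 10, 9, 11, 10, 10, 9, 11, 11, 1, 10, 10, 9, 11, 11, 1, 10, 10, 9, 11, 11] 0 4 = true := by decide +kernel

theorem rel14 : T.rel 4 [10, 5, 11, 1, 10, 10, 5, 11, 11, 1, 10, 9, 11, 1, 10, 10, 9, 11, 11, 1] 0 4 = true := by decide +kernel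

theorem rel15 : T.rel 4 [5, 5, 10, 9, 11, 10, 9, 11] 0 4 = true := by decide +kernel

theorem rel16 : T.rel 4 [5, 4, 9, 8, 8] 0 4 = true := by decide +kernel

theorem rel17 : T.rel 4 [5, 1, 4, 4, 9, 4, 1, 9, 10, 9, 11, 1, 10, 9, 11, 1, 10, 9, 11] 0 4 = true := by decide +kernel

theorem rel18 : T.rel 4 [5, 1, 10, 10, 5, 11, 11, 1, 9, 1, 10, 10, 9, 11, 11, 1] 0 4 = true := by decide +kernel

theorem rel19 : T.rel 4 [5, 1, 10, 5, 11, 1, 9, 1, 10, 9, 11, 1] 0 4 = true := by decide +kernel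

theorem rel20 : T.rel 4 [10, 1, 11, 9, 9, 1] 0 4 = true := by decide +kernel

theorem rel21 : T.rel 4 [11, 5, 4, 9, 10, 4] 0 4 = true := by decide +kernel

theorem rel22 : T.rel 4 [11, 5, 10, 9, 10, 9, 10, 9, 11, 10, 10, 9, 11, 11] 0 4 = true := by decide +kernel

theorem rel23 : T.rel 4 [7, 4, 3, 8] 0 4 = true := by decide +kernel

theorem rel24 : T.rel 4 [7, 1, 3, 1] 0 4 = true := by decide +kernel

theorem rel25 : T.rel 4 [7, 5, 3, 9, 3, 11, 9] 0 4 = true := by decide +kernel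

theorem rel26 : T.rel 4 [7, 5, 1, 5, 1, 9, 3, 5, 1, 9, 1, 9] 0 4 = true := by decide +kernel

theorem rel27 : T.rel 4 [7, 5, 1, 4, 2, 3, 6, 8, 1, 9, 3, 11, 5, 10, 9, 11, 9, 11, 9] 0 4 = true := by decide +kernel

theorem hcov : T.treeCov (ones 11) L 1 = true := by decide +kernel

theorem hg : lall (fun z => band (memL L z) (band (sub (ones 11) (T.let z).cl) (T.closed (ones 11) z))) gs = true := by decide +kernel

theorem rot1_1 : T.rot 1 [1] (sel (ones 11) ip1 1) = true := by decide +kernel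

theorem rot1_1r : band (Rule.ok (2 * 1) EX RL ⟨1 :: [1], [], 26, false⟩) (lall (memL L) [1]) = true := by decide +kernel

theorem rot1_2 : T.rot 1 [3, 1, 7] (sel (ones 11) ip1 2) = true := by decide +kernel

theorem rot1_2r : band (Rule.ok (2 * 1) EX RL ⟨1 :: [3, 1, 7], [4], 22, true⟩) (lall (memL L) [3, 1, 7]) = true := by decide +kernel

theorem rot1_3 : T.rot 1 [7, 1, 3] (sel (ones 11) ip1 3) = true := by decide +kernel

theorem rot1_3r : band (Rule.ok (2 * 1) EX RL ⟨1 :: [7, 1, 3], [], 22, false⟩) (lall (memL L) [7, 1, 3]) = true := by decide +kernel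

theorem rot1_4 : T.rot 1 [10, 1, 11, 9, 9] (sel (ones 11) ip1 4) = true := by decide +kernel

theorem rot1_4r : band (Rule.ok (2 * 1) EX RL ⟨1 :: [10, 1, 11, 9, 9], [0], 18, true⟩) (lall (memL L) [10, 1, 11, 9, 9]) = true := by decide +kernel

theorem rot1_5 : T.rot 1 [11, 1, 5, 5, 10] (sel (ones 11) ip1 5) = true := by decide +kernel

theorem rot1_5r : band (Rule.ok (2 * 1) EX RL ⟨1 :: [11, 1, 5, 5, 10], [5, 2, 0], 18, false⟩) (lall (memL L) [11, 1, 5, 5, 10]) = true := by decide +kernel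

theorem rot1_6 : T.rot 1 [4, 4, 1, 10, 10, 9, 11, 11, 8, 1, 10, 10, 9, 11, 11, 10, 10, 5, 11, 11, 1, 10, 10, 5, 11, 11, 1, 10, 10, 9, 11, 11, 8, 10, 10, 5, 11, 11] (sel (ones 11) ip1 6) = true := by decide +kernel

theorem rot1_6r : band (Rule.ok (2 * 1) EX RL ⟨1 :: [4, 4, 1, 10, 10, 9, 11, 11, 8, 1, 10, 10, 9, 11, 11, 10, 10, 5, 11, 11, 1, 10, 10, 5, 11, 11, 1, 10, 10, 9, 11, 11, 8, 10, 10, 5, 11, 11], [5, 2, 5, 2, 9, 3, 4, 3, 4], 7, true⟩) (lall (memL L) [4, 4, 1, 10, 10, 9, 11, 11, 8, 1, 10, 10, 9, 11, 11, 10, 10, 5, 11, 11, 1, 10, 10, 5, 11, 11, 1, 10, 10, 9, 11, 11, 8, 10, 10, 5, 11, 11]) = true := by decide +kernel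

theorem rot1_7 : T.rot 1 [10, 10, 9, 11, 11, 4, 10, 10, 5, 11, 11, 1, 10, 10, 9, 11, 11, 1, 10, 10, 9, 11, 11, 10, 10, 5, 11, 11, 1, 4, 10, 10, 5, 11, 11, 1, 8, 8] (sel (ones 11) ip1 7) = true := by decide +kernel

theorem rot1_7r : band (Rule.ok (2 * 1) EX RL ⟨1 :: [10, 10, 9, 11, 11, 4, 10, 10, 5, 11, 11, 1, 10, 10, 9, 11, 11, 1, 10, 10, 9, 11, 11, 10, 10, 5, 11, 11, 1, 4, 10, 10, 5, 11, 11, 1, 8, 8], [5, 2, 5, 2, 9, 3, 4, 3, 4, 0], 7, false⟩) (lall (memL L) [10, 10, 9, 11, 11, 4, 10, 10, 5, 11, 11, 1, 10, 10, 9, 11, 11, 1, 10, 10, 9, 11, 11, 10, 10, 5, 11, 11, 1, 4, 10, 10, 5, 11, 11, 1, 8, 8]) = true := by decide +kernel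

theorem cov1 : T.cover 1 [(sel (ones 11) ip1 1), (sel (ones 11) ip1 2), (sel (ones 11) ip1 3), (sel (ones 11) ip1 4), (sel (ones 11) ip1 5), (sel (ones 11) ip1 6), (sel (ones 11) ip1 7), 1] = true := by decide +kernel

theorem tl1 : T.treeLt 4 1 = true := by decide +kernel

theorem rot2_1 : T.rot 2 [7, 10] (sel (ones 11) ip2 1) = true := by decide +kernel

theorem rot2_1r : band (Rule.ok (2 * 1) EX RL ⟨2 :: [7, 10], [], 26, false⟩) (lall (memL L) [7, 10]) = true := by decide +kernel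

theorem rot2_2 : T.rot 2 [3, 6, 8, 1, 9, 3, 11, 5, 10, 9, 11, 9, 11, 9, 7, 5, 1, 4] (sel (ones 11) ip2 2) = true := by decide +kernel

theorem rot2_2r : band (Rule.ok (2 * 1) EX RL ⟨2 :: [3, 6, 8, 1, 9, 3, 11, 5, 10, 9, 11, 9, 11, 9, 7, 5, 1, 4], [4, 9, 0, 7], 25, true⟩) (lall (memL L) [3, 6, 8, 1, 9, 3, 11, 5, 10, 9, 11, 9, 11, 9, 7, 5, 1, 4]) = true := by decide +kernel

theorem cov2 : T.cover 2 [(sel (ones 11) ip2 1), (sel (ones 11) ip2 2)] = true := by decide +kernel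

theorem tl2 : T.treeLt 4 2 = true := by decide +kernel

theorem rot3_1 : T.rot 3 [7] (sel (ones 11) ip3 1) = true := by decide +kernel

theorem rot3_1r : band (Rule.ok (2 * 1) EX RL ⟨3 :: [7], [], 26, false⟩) (lall (memL L) [7]) = true := by decide +kernel

theorem rot3_2 : T.rot 3 [6, 11] (sel (ones 11) ip3 2) = true := by decide +kernel

theorem rot3_2r : band (Rule.ok (2 * 1) EX RL ⟨3 :: [6, 11], [], 26, false⟩) (lall (memL L) [6, 11]) = true := by decide +kernel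

theorem rot3_3 : T.rot 3 [8, 7, 4] (sel (ones 11) ip3 3) = true := by decide +kernel

theorem rot3_3r : band (Rule.ok (2 * 1) EX RL ⟨3 :: [8, 7, 4], [7, 4], 21, true⟩) (lall (memL L) [8, 7, 4]) = true := by decide +kernel

theorem rot3_4 : T.rot 3 [4, 7, 8] (sel (ones 11) ip3 4) = true := by decide +kernel

theorem rot3_4r : band (Rule.ok (2 * 1) EX RL ⟨3 :: [4, 7, 8], [4], 21, false⟩) (lall (memL L) [4, 7, 8]) = true := by decide +kernel

theorem rot3_5 : T.rot 3 [1, 7, 1] (sel (ones 11) ip3 5) = true := by decide +kernel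

theorem rot3_5r : band (Rule.ok (2 * 1) EX RL ⟨3 :: [1, 7, 1], [4], 22, false⟩) (lall (memL L) [1, 7, 1]) = true := by decide +kernel

theorem rot3_6 : T.rot 3 [9, 3, 11, 9, 7, 5] (sel (ones 11) ip3 6) = true := by decide +kernel

theorem rot3_6r : band (Rule.ok (2 * 1) EX RL ⟨3 :: [9, 3, 11, 9, 7, 5], [4, 9], 23, true⟩) (lall (memL L) [9, 3, 11, 9, 7, 5]) = true := by decide +kernel

theorem rot3_7 : T.rot 3 [6, 8, 1, 9, 3, 11, 5, 10, 9, 11, 9, 11, 9, 7, 5, 1, 4, 2] (sel (ones 11) ip3 7) = true := by decide +kernel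

theorem rot3_7r : band (Rule.ok (2 * 1) EX RL ⟨3 :: [6, 8, 1, 9, 3, 11, 5, 10, 9, 11, 9, 11, 9, 7, 5, 1, 4, 2], [4, 9, 0, 7, 3], 25, true⟩) (lall (memL L) [6, 8, 1, 9, 3, 11, 5, 10, 9, 11, 9, 11, 9, 7, 5, 1, 4, 2]) = true := by decide +kernel

theorem cov3 : T.cover 3 [(sel (ones 11) ip3 1), (sel (ones 11) ip3 2), (sel (ones 11) ip3 3), (sel (ones 11) ip3 4), (sel (ones 11) ip3 5), (sel (ones 11) ip3 6), (sel (ones 11) ip3 7)] = true := by decide +kernel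

theorem tl3 : T.treeLt 4 3 = true := by decide +kernel

theorem rot4_1 : T.rot 4 [8] (sel (ones 11) ip4 1) = true := by decide +kernel

theorem rot4_1r : band (Rule.ok (2 * 1) EX RL ⟨4 :: [8], [], 26, false⟩) (lall (memL L) [8]) = true := by decide +kernel

theorem rot4_2 : T.rot 4 [3, 8, 7] (sel (ones 11) ip4 2) = true := by decide +kernel

theorem rot4_2r : band (Rule.ok (2 * 1) EX RL ⟨4 :: [3, 8, 7], [4], 21, true⟩) (lall (memL L) [3, 8, 7]) = true := by decide +kernel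

theorem rot4_3 : T.rot 4 [7, 8, 3] (sel (ones 11) ip4 3) = true := by decide +kernel

theorem rot4_3r : band (Rule.ok (2 * 1) EX RL ⟨4 :: [7, 8, 3], [], 21, false⟩) (lall (memL L) [7, 8, 3]) = true := by decide +kernel

theorem rot4_4 : T.rot 4 [9, 8, 8, 5] (sel (ones 11) ip4 4) = true := by decide +kernel

theorem rot4_4r : band (Rule.ok (2 * 1) EX RL ⟨4 :: [9, 8, 8, 5], [9], 14, true⟩) (lall (memL L) [9, 8, 8, 5]) = true := by decide +kernel

theorem rot4_5 : T.rot 4 [4, 5, 8, 9] (sel (ones 11) ip4 5) = true := by decide +kernel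

theorem rot4_5r : band (Rule.ok (2 * 1) EX RL ⟨4 :: [4, 5, 8, 9], [], 14, false⟩) (lall (memL L) [4, 5, 8, 9]) = true := by decide +kernel

theorem rot4_6 : T.rot 4 [10, 9, 11, 8, 8, 10, 5, 11] (sel (ones 11) ip4 6) = true := by decide +kernel

theorem rot4_6r : band (Rule.ok (2 * 1) EX RL ⟨4 :: [10, 9, 11, 8, 8, 10, 5, 11], [5, 2, 9, 3, 4], 10, true⟩) (lall (memL L) [10, 9, 11, 8, 8, 10, 5, 11]) = true := by decide +kernel

theorem cov4 : T.cover 4 [(sel (ones 11) ip4 1), (sel (ones 11) ip4 2), (sel (ones 11) ip4 3), (sel (ones 11) ip4 4), (sel (ones 11) ip4 5), (sel (ones 11) ip4 6), 1] = true := by decide +kernel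

theorem tl4 : T.treeLt 4 4 = true := by decide +kernel

theorem rot5_1 : T.rot 5 [8, 9, 4, 4] (sel (ones 11) ip5 1) = true := by decide +kernel

theorem rot5_1r : band (Rule.ok (2 * 1) EX RL ⟨5 :: [8, 9, 4, 4], [7, 7], 14, false⟩) (lall (memL L) [8, 9, 4, 4]) = true := by decide +kernel

theorem rot5_2 : T.rot 5 [5, 10, 1, 11, 1] (sel (ones 11) ip5 2) = true := by decide +kernel

theorem rot5_2r : band (Rule.ok (2 * 1) EX RL ⟨5 :: [5, 10, 1, 11, 1], [0], 18, false⟩) (lall (memL L) [5, 10, 1, 11, 1]) = true := by decide +kernel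

theorem rot5_3 : T.rot 5 [4, 9, 10, 4, 11] (sel (ones 11) ip5 3) = true := by decide +kernel

theorem rot5_3r : band (Rule.ok (2 * 1) EX RL ⟨5 :: [4, 9, 10, 4, 11], [3, 4], 19, true⟩) (lall (memL L) [4, 9, 10, 4, 11]) = true := by decide +kernel

theorem rot5_4 : T.rot 5 [3, 9, 3, 11, 9, 7] (sel (ones 11) ip5 4) = true := by decide +kernel

theorem rot5_4r : band (Rule.ok (2 * 1) EX RL ⟨5 :: [3, 9, 3, 11, 9, 7], [4], 23, true⟩) (lall (memL L) [3, 9, 3, 11, 9, 7]) = true := by decide +kernel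

theorem rot5_5 : T.rot 5 [11, 8, 10, 9, 11, 4, 4, 10] (sel (ones 11) ip5 5) = true := by decide +kernel

theorem rot5_5r : band (Rule.ok (2 * 1) EX RL ⟨5 :: [11, 8, 10, 9, 11, 4, 4, 10], [7, 7, 5, 2], 10, false⟩) (lall (memL L) [11, 8, 10, 9, 11, 4, 4, 10]) = true := by decide +kernel

theorem rot5_6 : T.rot 5 [11, 1, 9, 1, 10, 9, 11, 1, 5, 1, 10] (sel (ones 11) ip5 6) = true := by decide +kernel

theorem rot5_6r : band (Rule.ok (2 * 1) EX RL ⟨5 :: [11, 1, 9, 1, 10, 9, 11, 1, 5, 1, 10], [9, 0, 5, 2], 17, true⟩) (lall (memL L) [11, 1, 9, 1, 10, 9, 11, 1, 5, 1, 10]) = true := by decide +kernel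

theorem rot5_7 : T.rot 5 [1, 9, 3, 5, 1, 9, 1, 9, 7, 5, 1] (sel (ones 11) ip5 7) = true := by decide +kernel

theorem rot5_7r : band (Rule.ok (2 * 1) EX RL ⟨5 :: [1, 9, 3, 5, 1, 9, 1, 9, 7, 5, 1], [4, 9, 0], 24, true⟩) (lall (memL L) [1, 9, 3, 5, 1, 9, 1, 9, 7, 5, 1]) = true := by decide +kernel

theorem rot5_8 : T.rot 5 [11, 11, 1, 9, 1, 10, 10, 9, 11, 11, 1, 5, 1, 10, 10] (sel (ones 11) ip5 8) = true := by decide +kernel

theorem rot5_8r : band (Rule.ok (2 * 1) EX RL ⟨5 :: [11, 11, 1, 9, 1, 10, 10, 9, 11, 11, 1, 5, 1, 10, 10], [9, 0, 5, 2, 5, 2], 16, true⟩) (lall (memL L) [11, 11, 1, 9, 1, 10, 10, 9, 11, 11, 1, 5, 1, 10, 10]) = true := by decide +kernel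

theorem cov5 : T.cover 5 [(sel (ones 11) ip5 1), (sel (ones 11) ip5 2), (sel (ones 11) ip5 3), (sel (ones 11) ip5 4), (sel (ones 11) ip5 5), (sel (ones 11) ip5 6), (sel (ones 11) ip5 7), (sel (ones 11) ip5 8), 1] = true := by decide +kernel

theorem tl5 : T.treeLt 4 5 = true := by decide +kernel

theorem rot6_1 : T.rot 6 [2] (sel (ones 11) ip6 1) = true := by decide +kernel

theorem rot6_1r : band (Rule.ok (2 * 1) EX RL ⟨6 :: [2], [], 26, false⟩) (lall (memL L) [2]) = true := by decide +kernel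

theorem rot6_2 : T.rot 6 [11, 3] (sel (ones 11) ip6 2) = true := by decide +kernel

theorem rot6_2r : band (Rule.ok (2 * 1) EX RL ⟨6 :: [11, 3], [], 26, false⟩) (lall (memL L) [11, 3]) = true := by decide +kernel

theorem rot6_3 : T.rot 6 [8, 1, 9, 3, 5, 10, 5, 10, 5, 11, 9, 10, 7, 5, 1, 4, 2, 7] (sel (ones 11) ip6 3) = true := by decide +kernel

theorem rot6_3r : band (Rule.ok (2 * 1) EX RL ⟨6 :: [8, 1, 9, 3, 5, 10, 5, 10, 5, 11, 9, 10, 7, 5, 1, 4, 2, 7], [4, 9, 0, 7, 3], 25, false⟩) (lall (memL L) [8, 1, 9, 3, 5, 10, 5, 10, 5, 11, 9, 10, 7, 5, 1, 4, 2, 7]) = true := by decide +kernel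

theorem cov6 : T.cover 6 [(sel (ones 11) ip6 1), (sel (ones 11) ip6 2), (sel (ones 11) ip6 3)] = true := by decide +kernel

theorem tl6 : Nat.beq (T.let 6).tt 0 = true := by decide +kernel

theorem rot7_1 : T.rot 7 [3] (sel (ones 11) ip7 1) = true := by decide +kernel

theorem rot7_1r : band (Rule.ok (2 * 1) EX RL ⟨7 :: [3], [], 26, false⟩) (lall (memL L) [3]) = true := by decide +kernel

theorem rot7_2 : T.rot 7 [10, 2] (sel (ones 11) ip7 2) = true := by decide +kernel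

theorem rot7_2r : band (Rule.ok (2 * 1) EX RL ⟨7 :: [10, 2], [], 26, false⟩) (lall (memL L) [10, 2]) = true := by decide +kernel

theorem rot7_3 : T.rot 7 [4, 3, 8] (sel (ones 11) ip7 3) = true := by decide +kernel

theorem rot7_3r : band (Rule.ok (2 * 1) EX RL ⟨7 :: [4, 3, 8], [], 21, true⟩) (lall (memL L) [4, 3, 8]) = true := by decide +kernel

theorem rot7_4 : T.rot 7 [8, 3, 4] (sel (ones 11) ip7 4) = true := by decide +kernel

theorem rot7_4r : band (Rule.ok (2 * 1) EX RL ⟨7 :: [8, 3, 4], [7], 21, false⟩) (lall (memL L) [8, 3, 4]) = true := by decide +kernel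

theorem rot7_5 : T.rot 7 [1, 3, 1] (sel (ones 11) ip7 5) = true := by decide +kernel

theorem rot7_5r : band (Rule.ok (2 * 1) EX RL ⟨7 :: [1, 3, 1], [], 22, true⟩) (lall (memL L) [1, 3, 1]) = true := by decide +kernel

theorem rot7_6 : T.rot 7 [9, 3, 5, 10, 7, 5] (sel (ones 11) ip7 6) = true := by decide +kernel

theorem rot7_6r : band (Rule.ok (2 * 1) EX RL ⟨7 :: [9, 3, 5, 10, 7, 5], [4, 9, 5], 23, false⟩) (lall (memL L) [9, 3, 5, 10, 7, 5]) = true := by decide +kernel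

theorem rot7_7 : T.rot 7 [5, 1, 4, 2, 7, 6, 8, 1, 9, 3, 5, 10, 5, 10, 5, 11, 9, 10] (sel (ones 11) ip7 7) = true := by decide +kernel

theorem rot7_7r : band (Rule.ok (2 * 1) EX RL ⟨7 :: [5, 1, 4, 2, 7, 6, 8, 1, 9, 3, 5, 10, 5, 10, 5, 11, 9, 10], [4, 9, 0, 7, 3, 5, 2, 6, 0, 8, 5], 25, false⟩) (lall (memL L) [5, 1, 4, 2, 7, 6, 8, 1, 9, 3, 5, 10, 5, 10, 5, 11, 9, 10]) = true := by decide +kernel

theorem rot7_8 : T.rot 7 [6, 8, 1, 9, 3, 5, 10, 5, 10, 5, 11, 9, 10, 7, 5, 1, 4, 2] (sel (ones 11) ip7 8) = true := by decide +kernel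

theorem rot7_8r : band (Rule.ok (2 * 1) EX RL ⟨7 :: [6, 8, 1, 9, 3, 5, 10, 5, 10, 5, 11, 9, 10, 7, 5, 1, 4, 2], [4, 9, 0, 7, 3, 5], 25, false⟩) (lall (memL L) [6, 8, 1, 9, 3, 5, 10, 5, 10, 5, 11, 9, 10, 7, 5, 1, 4, 2]) = true := by decide +kernel

theorem cov7 : T.cover 7 [(sel (ones 11) ip7 1), (sel (ones 11) ip7 2), (sel (ones 11) ip7 3), (sel (ones 11) ip7 4), (sel (ones 11) ip7 5), (sel (ones 11) ip7 6), (sel (ones 11) ip7 7), (sel (ones 11) ip7 8)] = true := by decide +kernel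

theorem tl7 : T.treeLt 4 7 = true := by decide +kernel

theorem rot8_1 : T.rot 8 [4] (sel (ones 11) ip8 1) = true := by decide +kernel

theorem rot8_1r : band (Rule.ok (2 * 1) EX RL ⟨8 :: [4], [], 26, false⟩) (lall (memL L) [4]) = true := by decide +kernel

theorem rot8_2 : T.rot 8 [7, 4, 3] (sel (ones 11) ip8 2) = true := by decide +kernel

theorem rot8_2r : band (Rule.ok (2 * 1) EX RL ⟨8 :: [7, 4, 3], [7], 21, true⟩) (lall (memL L) [7, 4, 3]) = true := by decide +kernel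

theorem rot8_3 : T.rot 8 [3, 4, 7] (sel (ones 11) ip8 3) = true := by decide +kernel

theorem rot8_3r : band (Rule.ok (2 * 1) EX RL ⟨8 :: [3, 4, 7], [4, 7], 21, false⟩) (lall (memL L) [3, 4, 7]) = true := by decide +kernel

theorem rot8_4 : T.rot 8 [5, 4, 9, 8] (sel (ones 11) ip8 4) = true := by decide +kernel

theorem rot8_4r : band (Rule.ok (2 * 1) EX RL ⟨8 :: [5, 4, 9, 8], [7], 14, true⟩) (lall (memL L) [5, 4, 9, 8]) = true := by decide +kernel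

theorem rot8_5 : T.rot 8 [9, 4, 4, 5] (sel (ones 11) ip8 5) = true := by decide +kernel

theorem rot8_5r : band (Rule.ok (2 * 1) EX RL ⟨8 :: [9, 4, 4, 5], [9, 7], 14, false⟩) (lall (memL L) [9, 4, 4, 5]) = true := by decide +kernel

theorem rot8_6 : T.rot 8 [10, 9, 11, 4, 4, 10, 5, 11] (sel (ones 11) ip8 6) = true := by decide +kernel

theorem rot8_6r : band (Rule.ok (2 * 1) EX RL ⟨8 :: [10, 9, 11, 4, 4, 10, 5, 11], [5, 2, 9, 3, 4, 7], 10, false⟩) (lall (memL L) [10, 9, 11, 4, 4, 10, 5, 11]) = true := by decide +kernel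

theorem cov8 : T.cover 8 [(sel (ones 11) ip8 1), (sel (ones 11) ip8 2), (sel (ones 11) ip8 3), (sel (ones 11) ip8 4), (sel (ones 11) ip8 5), (sel (ones 11) ip8 6)] = true := by decide +kernel

theorem tl8 : T.treeLt 4 8 = true := by decide +kernel

theorem rot9_1 : T.rot 9 [5] (sel (ones 11) ip9 1) = true := by decide +kernel

theorem rot9_1r : band (Rule.ok (2 * 1) EX RL ⟨9 :: [5], [], 26, false⟩) (lall (memL L) [5]) = true := by decide +kernel

theorem rot9_2 : T.rot 9 [8, 8, 5, 4] (sel (ones 11) ip9 2) = true := by decide +kernel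

theorem rot9_2r : band (Rule.ok (2 * 1) EX RL ⟨9 :: [8, 8, 5, 4], [9, 7], 14, true⟩) (lall (memL L) [8, 8, 5, 4]) = true := by decide +kernel

theorem rot9_3 : T.rot 9 [1, 10, 1, 11, 9] (sel (ones 11) ip9 3) = true := by decide +kernel

theorem rot9_3r : band (Rule.ok (2 * 1) EX RL ⟨9 :: [1, 10, 1, 11, 9], [0, 9], 18, true⟩) (lall (memL L) [1, 10, 1, 11, 9]) = true := by decide +kernel

theorem rot9_4 : T.rot 9 [10, 8, 11, 5, 8] (sel (ones 11) ip9 4) = true := by decide +kernel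

theorem rot9_4r : band (Rule.ok (2 * 1) EX RL ⟨9 :: [10, 8, 11, 5, 8], [3, 4, 9], 19, false⟩) (lall (memL L) [10, 8, 11, 5, 8]) = true := by decide +kernel

theorem rot9_5 : T.rot 9 [3, 5, 10, 7, 5, 7] (sel (ones 11) ip9 5) = true := by decide +kernel

theorem rot9_5r : band (Rule.ok (2 * 1) EX RL ⟨9 :: [3, 5, 10, 7, 5, 7], [4, 9], 23, false⟩) (lall (memL L) [3, 5, 10, 7, 5, 7]) = true := by decide +kernel

theorem rot9_6 : T.rot 9 [11, 8, 8, 10, 5, 11, 4, 10] (sel (ones 11) ip9 6) = true := by decide +kernel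

theorem rot9_6r : band (Rule.ok (2 * 1) EX RL ⟨9 :: [11, 8, 8, 10, 5, 11, 4, 10], [7, 7, 5, 2, 9], 10, true⟩) (lall (memL L) [11, 8, 8, 10, 5, 11, 4, 10]) = true := by decide +kernel

theorem rot9_7 : T.rot 9 [11, 1, 5, 1, 10, 5, 11, 1, 9, 1, 10] (sel (ones 11) ip9 7) = true := by decide +kernel

theorem rot9_7r : band (Rule.ok (2 * 1) EX RL ⟨9 :: [11, 1, 5, 1, 10, 5, 11, 1, 9, 1, 10], [0, 5, 2, 9], 17, true⟩) (lall (memL L) [11, 1, 5, 1, 10, 5, 11, 1, 9, 1, 10]) = true := by decide +kernel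

theorem rot9_8 : T.rot 9 [1, 9, 3, 5, 1, 5, 1, 9, 7, 5, 1] (sel (ones 11) ip9 8) = true := by decide +kernel

theorem rot9_8r : band (Rule.ok (2 * 1) EX RL ⟨9 :: [1, 9, 3, 5, 1, 5, 1, 9, 7, 5, 1], [4, 9, 0, 9], 24, false⟩) (lall (memL L) [1, 9, 3, 5, 1, 5, 1, 9, 7, 5, 1]) = true := by decide +kernel

theorem rot9_9 : T.rot 9 [10, 10, 10, 5, 11, 11, 10, 5, 11, 5, 11, 5, 11] (sel (ones 11) ip9 9) = true := by decide +kernel

theorem rot9_9r : band (Rule.ok (2 * 1) EX RL ⟨9 :: [10, 10, 10, 5, 11, 11, 10, 5, 11, 5, 11, 5, 11], [3, 4, 9], 20, false⟩) (lall (memL L) [10, 10, 10, 5, 11, 11, 10, 5, 11, 5, 11, 5, 11]) = true := by decide +kernel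

theorem rot9_10 : T.rot 9 [11, 11, 1, 5, 1, 10, 10, 5, 11, 11, 1, 9, 1, 10, 10] (sel (ones 11) ip9 10) = true := by decide +kernel

theorem rot9_10r : band (Rule.ok (2 * 1) EX RL ⟨9 :: [11, 11, 1, 5, 1, 10, 10, 5, 11, 11, 1, 9, 1, 10, 10], [0, 5, 2, 5, 2, 9], 16, true⟩) (lall (memL L) [11, 11, 1, 5, 1, 10, 10, 5, 11, 11, 1, 9, 1, 10, 10]) = true := by decide +kernel

theorem cov9 : T.cover 9 [(sel (ones 11) ip9 1), (sel (ones 11) ip9 2), (sel (ones 11) ip9 3), (sel (ones 11) ip9 4), (sel (ones 11) ip9 5), (sel (ones 11) ip9 6), (sel (ones 11) ip9 7), (sel (ones 11) ip9 8), (sel (ones 11) ip9 9), (sel (ones 11) ip9 10)] = true := by decide +kernel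

theorem tl9 : Nat.beq (T.let 9).tt 0 = true := by decide +kernel

theorem rot10_1 : T.rot 10 [2, 7] (sel (ones 11) ip10 1) = true := by decide +kernel

theorem rot10_1r : band (Rule.ok (2 * 1) EX RL ⟨10 :: [2, 7], [], 26, false⟩) (lall (memL L) [2, 7]) = true := by decide +kernel

theorem rot10_2 : T.rot 10 [1, 11, 9, 9, 1] (sel (ones 11) ip10 2) = true := by decide +kernel

theorem rot10_2r : band (Rule.ok (2 * 1) EX RL ⟨10 :: [1, 11, 9, 9, 1], [], 18, true⟩) (lall (memL L) [1, 11, 9, 9, 1]) = true := by decide +kernel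

theorem rot10_3 : T.rot 10 [4, 11, 5, 4, 9] (sel (ones 11) ip10 3) = true := by decide +kernel

theorem rot10_3r : band (Rule.ok (2 * 1) EX RL ⟨10 :: [4, 11, 5, 4, 9], [6, 3, 4], 19, true⟩) (lall (memL L) [4, 11, 5, 4, 9]) = true := by decide +kernel

theorem rot10_4 : T.rot 10 [7, 5, 7, 9, 3, 5] (sel (ones 11) ip10 4) = true := by decide +kernel

theorem rot10_4r : band (Rule.ok (2 * 1) EX RL ⟨10 :: [7, 5, 7, 9, 3, 5], [9], 23, false⟩) (lall (memL L) [7, 5, 7, 9, 3, 5]) = true := by decide +kernel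

theorem rot10_5 : T.rot 10 [5, 10, 5, 11, 9, 10, 7, 5, 1, 4, 2, 7, 6, 8, 1, 9, 3, 5] (sel (ones 11) ip10 5) = true := by decide +kernel

theorem rot10_5r : band (Rule.ok (2 * 1) EX RL ⟨10 :: [5, 10, 5, 11, 9, 10, 7, 5, 1, 4, 2, 7, 6, 8, 1, 9, 3, 5], [9], 25, false⟩) (lall (memL L) [5, 10, 5, 11, 9, 10, 7, 5, 1, 4, 2, 7, 6, 8, 1, 9, 3, 5]) = true := by decide +kernel

theorem cov10 : T.cover 10 [(sel (ones 11) ip10 1), (sel (ones 11) ip10 2), (sel (ones 11) ip10 3), (sel (ones 11) ip10 4), (sel (ones 11) ip10 5), 1] = true := by decide +kernel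

theorem tl10 : Nat.beq (T.let 10).tt 0 = true := by decide +kernel

theorem rot11_1 : T.rot 11 [3, 6] (sel (ones 11) ip11 1) = true := by decide +kernel

theorem rot11_1r : band (Rule.ok (2 * 1) EX RL ⟨11 :: [3, 6], [], 26, false⟩) (lall (memL L) [3, 6]) = true := by decide +kernel

theorem rot11_2 : T.rot 11 [1, 5, 5, 10, 1] (sel (ones 11) ip11 2) = true := by decide +kernel

theorem rot11_2r : band (Rule.ok (2 * 1) EX RL ⟨11 :: [1, 5, 5, 10, 1], [5, 2], 18, false⟩) (lall (memL L) [1, 5, 5, 10, 1]) = true := by decide +kernel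

theorem rot11_3 : T.rot 11 [5, 8, 9, 10, 8] (sel (ones 11) ip11 3) = true := by decide +kernel

theorem rot11_3r : band (Rule.ok (2 * 1) EX RL ⟨11 :: [5, 8, 9, 10, 8], [6], 19, false⟩) (lall (memL L) [5, 8, 9, 10, 8]) = true := by decide +kernel

theorem rot11_4 : T.rot 11 [9, 7, 5, 3, 9, 3] (sel (ones 11) ip11 4) = true := by decide +kernel

theorem rot11_4r : band (Rule.ok (2 * 1) EX RL ⟨11 :: [9, 7, 5, 3, 9, 3], [9, 5, 2], 23, true⟩) (lall (memL L) [9, 7, 5, 3, 9, 3]) = true := by decide +kernel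

theorem rot11_5 : T.rot 11 [9, 7, 5, 1, 4, 2, 3, 6, 8, 1, 9, 3, 11, 5, 10, 9, 11, 9] (sel (ones 11) ip11 5) = true := by decide +kernel

theorem rot11_5r : band (Rule.ok (2 * 1) EX RL ⟨11 :: [9, 7, 5, 1, 4, 2, 3, 6, 8, 1, 9, 3, 11, 5, 10, 9, 11, 9], [9, 5, 2], 25, true⟩) (lall (memL L) [9, 7, 5, 1, 4, 2, 3, 6, 8, 1, 9, 3, 11, 5, 10, 9, 11, 9]) = true := by decide +kernel

theorem cov11 : T.cover 11 [(sel (ones 11) ip11 1), (sel (ones 11) ip11 2), (sel (ones 11) ip11 3), (sel (ones 11) ip11 4), (sel (ones 11) ip11 5)] = true := by decide +kernel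

theorem tl11 : Nat.beq (T.let 11).tt 0 = true := by decide +kernel

end Cfsg.Agent.Spor.LyAa
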