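import Cfsg.Agent.Spor.Chk

set_option autoImplicit false
set_option maxRecDepth 100000000
set_option Elab.async false
noncomputable section

namespace Cfsg.Agent.Spor.LyAa

def m0_0 : Nat := nat_lit 0x110
def m0_1 : Nat := nat_lit 0x100
def m0_2 : Nat := nat_lit 0x100
def n0 : Net := Net.cons 2 m0_0 (Net.cons 1 m0_1 (Net.cons 2 m0_2 (Net.nil)))

def m1_0 : Nat := nat_lit 0x80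
def m1_1 : Nat := nat_lit 0x800
def m1_2 : Nat := nat_lit 0x200
def m1_3 : Nat := nat_lit 0x101
def m1_4 : Nat := nat_lit 0x100
def m1_5 : Nat := nat_lit 0x800
def m1_6 : Nat := nat_lit 0x80
def n1 : Net := Net.cons 8 m1_0 (Net.cons 4 m1_1 (Net.cons 2 m1_2 (Net.cons 1 m1_3 (Net.cons 2 m1_4 (Net.cons 4 m1_5 (Net.cons 8 m1_6 (Net.nil)))))))

def m2_0 : Nat := nat_lit 0x8
def m2_1 : Nat := nat_lit 0x21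
def m2_2 : Nat := nat_lit 0x1
def m2_3 : Nat := nat_lit 0xa
def n2 : Net := Net.cons 4 m2_0 (Net.cons 2 m2_1 (Net.cons 1 m2_2 (Net.cons 4 m2_3 (Net.nil))))

def m3_0 : Nat := nat_lit 0xc0
def m3_1 : Nat := nat_lit 0x400
def m3_2 : Nat := nat_lit 0x4100
def m3_3 : Nat := nat_lit 0x100
def m3_4 : Nat := nat_lit 0xc0
def n3 : Net := Net.cons 8 m3_0 (Net.cons 4 m3_1 (Net.cons 1 m3_2 (Net.cons 2 m3_3 (Net.cons 8 m3_4 (Net.nil)))))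

def m4_0 : Nat := nat_lit 0x80
def m4_1 : Nat := nat_lit 0x801
def m4_2 : Nat := nat_lit 0x201
def m4_3 : Nat := nat_lit 0x100
def m4_4 : Nat := nat_lit 0x100
def m4_5 : Nat := nat_lit 0x801
def m4_6 : Nat := nat_lit 0x80
def n4 : Net := Net.cons 8 m4_0 (Net.cons 4 m4_1 (Net.cons 2 m4_2 (Net.cons 1 m4_3 (Net.cons 2 m4_4 (Net.cons 4 m4_5 (Net.cons 8 m4_6 (Net.nil)))))))

def m5_0 : Nat := nat_lit 0x80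
def m5_1 : Nat := nat_lit 0x806
def m5_2 : Nat := nat_lit 0x212
def m5_3 : Nat := nat_lit 0x410
def m5_4 : Nat := nat_lit 0x110
def m5_5 : Nat := nat_lit 0x804
def m5_6 : Nat := nat_lit 0x80
def n5 : Net := Net.cons 8 m5_0 (Net.cons 4 m5_1 (Net.cons 2 m5_2 (Net.cons 1 m5_3 (Net.cons 2 m5_4 (Net.cons 4 m5_5 (Net.cons 8 m5_6 (Net.nil)))))))

def ip1 : List Nat := [0x34a, 0x62e, 0x780]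
def l1 : Let := ⟨0, false, 0x7ff, 0x40, [0x1e2, 0x7a6, 0x788, 0x780]⟩

def ip2 : List Nat := [0x75a, 0x24]
def l2 : Let := ⟨1, false, 0x7ff, 0x202, [0x644, 0x71c, 0x770, 0x2e]⟩

def ip3 : List Nat := [0x6e4, 0x699, 0x350]
def l3 : Let := ⟨2, false, 0x7ff, 0x8, [0x464, 0x259, 0x588, 0x8]⟩

def ip4 : List Nat := [0x30a, 0x42e, 0x610]
def l4 : Let := ⟨3, false, 0x7ff, 0x480, [0x532, 0x636, 0x608, 0x0]⟩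

def ip5 : List Nat := [0x7c0, 0x2d2, 0x162, 0x8]
def l5 : Let := ⟨4, false, 0x7ff, 0x10, [0x7a0, 0x5f8, 0x3b0, 0xa]⟩

def ip6 : List Nat := [0x226, 0x5fd]
def l6 : Let := ⟨1, true, 0x7ff, 0x0, [0x3c6, 0x59c, 0x5f0, 0x2d]⟩

def ip7 : List Nat := [0x168, 0x132, 0x4f0, 0x200]
def l7 : Let := ⟨2, true, 0x7ff, 0x24, [0x44a, 0x270, 0x5a0, 0x20]⟩

def ip8 : List Nat := [0x4b5, 0x22e, 0x310]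
def l8 : Let := ⟨3, true, 0x7ff, 0x100, [0x6b3, 0x336, 0x308, 0x0]⟩

def ip9 : List Nat := [0x237, 0x48e, 0x522, 0x248]
def l9 : Let := ⟨4, true, 0x7ff, 0x0, [0x7b1, 0x6ec, 0x724, 0xa]⟩

def ip10 : List Nat := [0x628, 0x410, 0x1ce]
def l10 : Let := ⟨5, false, 0x7ff, 0x0, [0x61e, 0x384, 0x5fc, 0x2a]⟩

def ip11 : List Nat := [0x1a4, 0x111, 0x66a]
def l11 : Let := ⟨5, true, 0x7ff, 0x0, [0x1bb, 0x682, 0x776, 0x2c]⟩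

def NT : List Net := [n0, n1, n2, n3, n4, n5]
def LT : List Let := [⟨0, false, 0, 0, []⟩, l1, l2, l3, l4, l5, l6, l7, l8, l9, l10, l11]
def T : Tab := ⟨NT, LT⟩
def EX : List (List Nat) := [[], [0], [2], [4], [6], [8], [3], [5], [7], [9], [3, 4], [5, 2]]
def RL : List (List Nat) := [[5, 2, 5, 2, 9, 3, 4, 3, 4, 0, 5, 2, 5, 2, 9, 9, 3, 4, 3, 4, 0, 5, 2, 5, 2, 8, 3, 4, 3, 4, 6, 5, 2, 5, 2, 9, 3, 4, 3, 4, 0, 5, 2, 5, 2, 8, 8, 3, 4, 3, 4, 0, 5, 2, 5, 2, 8, 3, 4, 3, 4, 6], [5, 2, 5, 2, 9, 3, 4, 3, 4, 0, 5, 2, 5, 2, 8, 8, 8, 8, 3, 4, 3, 4, 0, 5, 2, 5, 2, 8, 3, 4, 3, 4], [6, 6, 6, 6, 6], [5, 2, 5, 2, 9, 3, 4, 3, 4, 0, 5, 2, 5, 2, 9, 3, 4, 3, 4, 0, 5, 2, 5, 2, 8, 3, 4, 3, 4, 7, 5, 2, 5, 2, 9, 3, 4, 3, 4, 0, 5, 2, 5, 2, 9, 3, 4, 3, 4, 0, 5, 2, 5, 2,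 8, 3, 4, 3, 4, 6, 5, 2, 5, 2, 9, 3, 4, 3, 4, 0, 5, 2, 5, 2, 8, 3, 4, 3, 4, 0, 5, 2, 5, 2, 8, 3, 4, 3, 4, 6, 5, 2, 5, 2, 9, 3, 4, 3, 4, 0, 5, 2, 5, 2, 8, 3, 4, 3, 4, 0, 5, 2, 5, 2, 8, 3, 4, 3, 4, 6, 5, 2, 5, 2, 9, 3, 4, 3, 4, 0, 5, 2, 5, 2, 8, 3, 4, 3, 4, 0, 5, 2, 5, 2, 8, 3, 4, 3, 4, 6], [7, 7, 5, 2, 5, 2, 9, 3, 4, 3, 4, 6, 5, 2, 5, 2, 8, 3, 4, 3, 4], [5, 2, 5, 2, 9, 3, 4, 3, 4, 0, 5, 2, 5, 2, 8, 3, 4, 3, 4, 6, 5, 2, 5, 2, 9, 3, 4, 3, 4, 6, 6, 0, 5, 2, 5, 2, 8, 3, 4, 3, 4], [5, 2, 5, 2, 9, 3, 4, 3, 4, 0, 5, 2, 5, 2, 9, 9, 3, 4, 3, 4, 0, 5, 2, 5, 2, 8, 8, 8, 3, 4, 3, 4], [7, 5, 2, 5, 2, 9, 3, 4, 3, 4, 0, 5, 2, 5, 2, 8, 3, 4, 3, 4, 7, 5, 2, 5, 2, 9, 3, 4, 3, 4, 0, 6, 6, 0, 5, 2, 5, 2, 8, 3, 4, 3, 4], [7, 7, 5, 2, 5, 2, 9, 3, 4, 3, 4, 0, 5,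 2, 5, 2, 9, 3, 4, 3, 4, 0, 5, 2, 5, 2, 8, 3, 4, 3, 4, 6, 6, 5, 2, 5, 2, 9, 3, 4, 3, 4, 0, 5, 2, 5, 2, 9, 3, 4, 3, 4, 0, 5, 2, 5, 2, 8, 3, 4, 3, 4, 7, 5, 2, 5, 2, 9, 3, 4, 3, 4, 0, 5, 2, 5, 2, 8, 3, 4, 3, 4, 0, 5, 2, 5, 2, 8, 3, 4, 3, 4, 6, 0], [5, 2, 5, 2, 9, 9, 3, 4, 8, 8, 3, 4], [7, 7, 5, 2, 9, 3, 4, 6, 5, 2, 8, 3, 4], [5, 2, 5, 2, 9, 3, 4, 3, 4, 0, 5, 2, 5, 2, 9, 3, 4, 3, 4, 0, 5, 2, 5, 2, 9, 3, 4, 9, 3, 4, 0, 6, 5, 2, 9, 3, 4, 6, 6, 0, 5, 2, 8, 3, 4], [0, 5, 2, 5, 2, 9, 3, 4, 3, 4, 0, 5, 2, 9, 3, 4, 0, 5, 2, 5, 2, 8, 3, 4, 3, 4, 0, 5, 2, 8, 3, 4], [5, 2, 9, 9, 3, 4, 8, 8], [7, 7, 9, 6, 8], [5, 2, 9, 3, 4, 0, 5, 2, 9, 3, 4, 0, 5, 2, 9, 3, 4, 9, 0, 6, 9, 6, 6, 0, 8], [0, 5, 2, 5, 2, 9, 3, 4, 3, 4, 0, 9, 0, 5, 2, 5, 2, 8, 3, 4, 3, 4, 0,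 8], [0, 5, 2, 9, 3, 4, 0, 9, 0, 5, 2, 8, 3, 4, 0, 8], [0, 9, 9, 5, 2, 0, 3, 4], [6, 3, 4, 9, 6, 8, 5, 2], [5, 2, 5, 2, 9, 3, 4, 9, 3, 4, 9, 3, 4, 9, 3, 4, 8, 5, 2], [7, 4, 6, 5], [0, 4, 0, 5], [9, 5, 2, 4, 9, 4, 8, 5], [9, 0, 9, 0, 8, 4, 9, 0, 8, 0, 8, 5], [9, 5, 2, 9, 5, 2, 9, 3, 4, 8, 5, 2, 4, 9, 0, 7, 3, 4, 2, 6, 0, 8, 5]]
def XL : List (List Nat) := []
def BW : List (List Nat) := [[0], [6], [8], [3, 4]]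
def IV : Nat := 0xa0b05040302090807060100
def L : List Nat := [1, 2, 3, 4, 5, 6, 7, 8, 9, 10, 11]
def gs : List Nat := [1, 2, 3, 4, 5]
def base : List Nat := [1, 4, 5, 10]

end Cfsg.Agent.Spor.LyAa
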